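import Groth.Agent.Lib.HypTor16.TorLE
import Groth.Agent.Lib.TorBal22.Basic
import Mathlib.RingTheory.Derivation.Basic
import Mathlib.RingTheory.Ideal.Maps
import Mathlib.Algebra.Homology.ShortComplex.ModuleCat
import Mathlib.LinearAlgebra.DirectSum.Finsupp
import Mathlib.LinearAlgebra.TensorProduct.Prod

/-!
# Periodicity of `Tor` over a hypersurface, from lifting a free resolution
-/

set_option autoImplicit false
set_option linter.style.haveILetI false
set_option linter.unusedSectionVars false
set_option backward.isDefEq.respectTransparency false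
set_option maxHeartbeats 400000
universe u

open TensorProduct

namespace GrothLib.HypTor16

/-- The group structure on `R^(a) ⊗ N`, stated for the structures on `R^(a)` elaborated from a commutative ring. -/
noncomputable scoped instance tensorGroup {R : Type u} [CommRing R] (a N : Type u) [AddCommGroup N] [Module R N] :
    AddCommGroup ((a →₀ R) ⊗[R] N) := TensorProduct.addCommGroup

/-- A free resolution, indexed with a shift by one: the term `0` is zero and `1` maps onto the module. -/
structure Res (R : Type u) [CommRing R] (M : Type u) [AddCommGroup M] [Module R M] where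
  idx : ℕ → Type u
  isEmpty : IsEmpty (idx 0)
  d : ∀ i, (idx (i + 1) →₀ R) →ₗ[R] (idx i →₀ R)
  ε : (idx 1 →₀ R) →ₗ[R] M
  surjective : Function.Surjective ε
  exact₀ : Function.Exact (d 1) ε
  exact : ∀ i, Function.Exact (d (i + 2)) (d (i + 1))

theorem Res.subsingleton {R : Type u} [CommRing R] {M : Type u} [AddCommGroup M] [Module R M] (F : Res R M)
    (S : Type u) [Zero S] : Subsingleton (F.idx 0 →₀ S) :=
  haveI := F.isEmpty
  ⟨fun x y => Finsupp.ext fun i => isEmptyElim i⟩

theorem Res.d_d {R : Type u} [CommRing R] {M : Type u} [AddCommGroup M] [Module R M] (F : Res R M) :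
    ∀ i (x : F.idx (i + 2) →₀ R), F.d i (F.d (i + 1) x) = 0
  | 0, _ => (F.subsingleton R).elim _ _
  | i + 1, x => (F.exact i).apply_apply_eq_zero x

section exists_res

variable (R : Type u) [CommRing R] (M : Type u) [AddCommGroup M] [Module R M]

/-- Syzygies. -/
noncomputable def syz : ℕ → ModuleCat.{u} R
  | 0 => ModuleCat.of R M
  | i + 1 => ModuleCat.of R (LinearMap.ker (cover R (syz i)))

/-- The index sets of the standard resolution. -/
noncomputable def stdIdx : ℕ → Type u
  | 0 => PEmpty
  | i + 1 => syz R M i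

/-- The standard free resolution. -/
noncomputable def stdRes : Res R M where
  idx := stdIdx R M
  isEmpty := inferInstanceAs (IsEmpty PEmpty)
  d := fun
    | 0 => 0
    | i + 1 => (LinearMap.ker (cover R (syz R M i))).subtype ∘ₗ cover R (syz R M (i + 1))
  ε := cover R M
  surjective := cover_surjective
  exact₀ := fun x => by
    constructor
    · intro hx
      obtain ⟨y, hy⟩ := cover_surjective (R := R) (X := syz R M 1) (⟨x, hx⟩ : LinearMap.ker (cover R (syz R M 0)))
      exact ⟨y, congrArg Subtype.val hy⟩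
    · rintro ⟨y, rfl⟩
      exact (cover R (syz R M 1) y : LinearMap.ker (cover R (syz R M 0))).2
  exact i := fun x => by
    constructor
    · intro hx
      have hx' : cover R (syz R M (i + 1)) x = 0 := Subtype.ext hx
      obtain ⟨y, hy⟩ :=
        cover_surjective (R := R) (X := syz R M (i + 2)) (⟨x, hx'⟩ : LinearMap.ker (cover R (syz R M (i + 1))))
      exact ⟨y, congrArg Subtype.val hy⟩
    · rintro ⟨y, rfl⟩
      exact congrArg Subtype.val
        (cover R (syz R M (i + 2)) y : LinearMap.ker (cover R (syz R M (i + 1)))).2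

end exists_res

section lifting

variable {B R : Type u} [CommRing B] [CommRing R] [Algebra B R] {a b : Type u}

/-- Reduction of coefficients. -/
noncomputable abbrev red (R : Type u) [CommRing R] [Algebra B R] (a : Type u) : (a →₀ B) →ₗ[B] (a →₀ R) :=
  Finsupp.mapRange.linearMap (Algebra.linearMap B R)

theorem red_single (j : a) (x : B) : red R a (Finsupp.single j x) = x • Finsupp.single j (1 : R) := by
  simp [Algebra.algebraMap_eq_smul_one]

/-- Reduction of a map. -/
noncomputable def redMap (φ : (a →₀ B) →ₗ[B] (b →₀ B)) : (a →₀ R) →ₗ[R] (b →₀ R) :=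
  Finsupp.linearCombination R fun j => red R b (φ (Finsupp.single j 1))

theorem red_apply (φ : (a →₀ B) →ₗ[B] (b →₀ B)) (x : a →₀ B) :
    red R b (φ x) = redMap φ (red R a x) := by
  induction x using Finsupp.induction_linear with
  | zero => simp
  | add f g hf hg => simp only [map_add, hf, hg]
  | single j c =>
    rw [red_single, LinearMap.map_smul_of_tower, redMap, Finsupp.linearCombination_single, one_smul,
      ← map_smul, ← map_smul, Finsupp.smul_single, smul_eq_mul, mul_one]

theorem red_surjective (hsurj : Function.Surjective (algebraMap B R)) (a : Type u) :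
    Function.Surjective (red R a : (a →₀ B) →ₗ[B] (a →₀ R)) :=
  Finsupp.mapRange_surjective _ (map_zero _) hsurj

variable {g : B}

theorem red_smul (hker : RingHom.ker (algebraMap B R) = Ideal.span {g}) (x : a →₀ B) : red R a (g • x) = 0 := by
  have hg : algebraMap B R g = 0 := by
    rw [← RingHom.mem_ker, hker]; exact Ideal.mem_span_singleton_self g
  ext i
  simp [Algebra.smul_def, hg]

theorem eq_smul_of_red (hg : IsSMulRegular B g) (hker : RingHom.ker (algebraMap B R) = Ideal.span {g})
    (x : a →₀ B) (hx : red R a x = 0) : ∃ y : a →₀ B, x = g • y := by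
  have hinj : Function.Injective fun c : B => g * c := fun p q h => hg h
  have h0 : Function.invFun (fun c : B => g * c) 0 = 0 := by
    have := Function.leftInverse_invFun hinj 0
    simpa using this
  refine ⟨x.mapRange _ h0, Finsupp.ext fun i => ?_⟩
  have hi : x i ∈ Ideal.span {g} := by
    rw [← hker, RingHom.mem_ker]
    simpa using congrArg (fun f => f i) hx
  obtain ⟨c, hc⟩ := Ideal.mem_span_singleton.1 hi
  simp only [Finsupp.smul_apply, Finsupp.mapRange_apply, smul_eq_mul]
  exact (Function.invFun_eq (f := fun c : B => g * c) ⟨c, hc.symm⟩).symm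

theorem smul_cancel (hg : IsSMulRegular B g) {x y : a →₀ B} (h : g • x = g • y) : x = y :=
  Finsupp.ext fun i => hg (by simpa using congrArg (fun f => f i) h)

end lifting

section derivation

variable {A B : Type u} [CommRing A] [CommRing B] [Algebra A B] (δ : Derivation A B B) {a b : Type u}

/-- Coefficientwise application. -/
noncomputable def coeffDer (x : a →₀ B) : a →₀ B := x.mapRange δ (map_zero δ)

theorem coeffDer_add (x y : a →₀ B) : coeffDer δ (x + y) = coeffDer δ x + coeffDer δ y :=
  Finsupp.mapRange_add (map_add δ) x y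

theorem coeffDer_smul (c : B) (x : a →₀ B) : coeffDer δ (c • x) = δ c • x + c • coeffDer δ x :=
  Finsupp.ext fun i => by simp [coeffDer, mul_comm, add_comm]

/-- The derivative of a matrix. -/
noncomputable def dMap (φ : (a →₀ B) →ₗ[B] (b →₀ B)) : (a →₀ B) →ₗ[B] (b →₀ B) :=
  Finsupp.linearCombination B fun j => coeffDer δ (φ (Finsupp.single j 1))

theorem coeffDer_apply (φ : (a →₀ B) →ₗ[B] (b →₀ B)) (x : a →₀ B) :
    coeffDer δ (φ x) = dMap δ φ x + φ (coeffDer δ x) := by
  induction x using Finsupp.induction_linear with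
  | zero => simp [coeffDer]
  | add f g hf hg =>
    rw [map_add, coeffDer_add, hf, hg, coeffDer_add, map_add, map_add]
    abel
  | single j c =>
    have h : (Finsupp.single j c : a →₀ B) = c • Finsupp.single j 1 := by simp
    rw [h, map_smul, coeffDer_smul, coeffDer_smul, map_add, map_smul, map_smul, map_smul, dMap,
      Finsupp.linearCombination_single, one_smul,
      show coeffDer δ (Finsupp.single j (1 : B)) = 0 by simp [coeffDer], map_zero, smul_zero, add_zero]
    abel

end derivation

section main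

variable {A B R : Type u} [CommRing A] [CommRing B] [CommRing R] [Algebra A B] [Algebra B R] (g : B)
  (hg : IsSMulRegular B g) (hsurj : Function.Surjective (algebraMap B R))
  (hker : RingHom.ker (algebraMap B R) = Ideal.span {g})
  {M : Type u} [AddCommGroup M] [Module R M] [Module B M] [IsScalarTower B R M] (F : Res R M)
  (N : Type u) [AddCommGroup N] [Module R N] [Module B N] [IsScalarTower B R N]

/-- The lifted differential. -/
noncomputable def dl (i : ℕ) : (F.idx (i + 1) →₀ B) →ₗ[B] (F.idx i →₀ B) :=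
  Finsupp.linearCombination B fun j => Function.surjInv (red_surjective hsurj _) (F.d i (Finsupp.single j 1))

theorem red_dl (i : ℕ) (x : F.idx (i + 1) →₀ B) :
    red R _ (dl hsurj F i x) = F.d i (red R _ x) := by
  induction x using Finsupp.induction_linear with
  | zero => simp
  | add f g hf hg => simp only [map_add, hf, hg]
  | single j c =>
    rw [red_single, LinearMap.map_smul_of_tower, dl, Finsupp.linearCombination_single, map_smul,
      Function.surjInv_eq (red_surjective hsurj _)]

include hg hker in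
theorem exists_tl (i : ℕ) :
    ∃ t : (F.idx (i + 2) →₀ B) →ₗ[B] (F.idx i →₀ B), ∀ x, dl hsurj F i (dl hsurj F (i + 1) x) = g • t x := by
  have h : ∀ j : F.idx (i + 2), ∃ y, dl hsurj F i (dl hsurj F (i + 1) (Finsupp.single j 1)) = g • y := fun j =>
    eq_smul_of_red hg hker _ (by rw [red_dl, red_dl]; exact F.d_d i _)
  choose y hy using h
  refine ⟨Finsupp.linearCombination B y, fun x => ?_⟩
  induction x using Finsupp.induction_linear with
  | zero => simp
  | add f f' hf hf' => simp only [map_add, smul_add, hf, hf']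
  | single j c =>
    have h : (Finsupp.single j c : F.idx (i + 2) →₀ B) = c • Finsupp.single j 1 := by simp
    rw [Finsupp.linearCombination_single, h, map_smul, map_smul, hy, smul_comm]

/-- The quotient of the square of the lifted differential by `g`. -/
noncomputable def tl (i : ℕ) : (F.idx (i + 2) →₀ B) →ₗ[B] (F.idx i →₀ B) :=
  (exists_tl g hg hsurj hker F i).choose

theorem dl_dl (i : ℕ) (x) : dl hsurj F i (dl hsurj F (i + 1) x) = g • tl g hg hsurj hker F i x :=
  (exists_tl g hg hsurj hker F i).choose_spec x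

theorem dl_tl (i : ℕ) (x) :
    dl hsurj F i (tl g hg hsurj hker F (i + 1) x) = tl g hg hsurj hker F i (dl hsurj F (i + 2) x) :=
  smul_cancel hg (by rw [← map_smul, ← dl_dl, dl_dl g hg hsurj hker F i])

/-- The terms of the resolution over `B`. -/
abbrev T (B : Type u) [CommRing B] (idx : ℕ → Type u) (i : ℕ) : Type u := (idx (i + 1) →₀ B) × (idx i →₀ B)

/-- The differential over `B`. -/
noncomputable def D (i : ℕ) : T B F.idx (i + 1) →ₗ[B] T B F.idx i :=
  (dl hsurj F (i + 1) ∘ₗ LinearMap.fst B _ _ + g • LinearMap.snd B _ _).prod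
    (-(tl g hg hsurj hker F i ∘ₗ LinearMap.fst B _ _) - dl hsurj F i ∘ₗ LinearMap.snd B _ _)

/-- The augmentation over `B`. -/
noncomputable def aug : T B F.idx 0 →ₗ[B] M :=
  F.ε.restrictScalars B ∘ₗ red R (F.idx 1) ∘ₗ LinearMap.fst B _ _

theorem D_apply (i : ℕ) (x : F.idx (i + 2) →₀ B) (y : F.idx (i + 1) →₀ B) :
    D g hg hsurj hker F i (x, y) =
      (dl hsurj F (i + 1) x + g • y, -tl g hg hsurj hker F i x - dl hsurj F i y) := rfl

include hsurj in
theorem aug_surjective : Function.Surjective (aug (B := B) F) := fun m => by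
  obtain ⟨v, rfl⟩ := F.surjective m
  obtain ⟨w, rfl⟩ := red_surjective (B := B) hsurj (F.idx 1) v
  exact ⟨(w, 0), rfl⟩

theorem exact_aug : Function.Exact (D g hg hsurj hker F 0) (aug (B := B) F) := fun v => by
  constructor
  · obtain ⟨x, e⟩ := v
    intro hx
    obtain ⟨z, hz⟩ := (F.exact₀ _).1 hx
    obtain ⟨z', rfl⟩ := red_surjective (B := B) hsurj _ z
    obtain ⟨w, hw⟩ := eq_smul_of_red hg hker (x - dl hsurj F 1 z') (by
      rw [map_sub, red_dl, hz]
      exact sub_self _)
    refine ⟨(z', w), ?_⟩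
    rw [D_apply, ← hw, add_sub_cancel]
    exact Prod.ext rfl ((F.subsingleton B).elim _ _)
  · rintro ⟨⟨x, y⟩, rfl⟩
    show F.ε (red R _ (dl hsurj F 1 x + g • y)) = 0
    rw [map_add, red_smul hker, add_zero, red_dl]
    exact F.exact₀.apply_apply_eq_zero _

theorem D_D (i : ℕ) (v) : D g hg hsurj hker F i (D g hg hsurj hker F (i + 1) v) = 0 := by
  obtain ⟨x, y⟩ := v
  rw [D_apply, D_apply]
  refine Prod.ext ?_ ?_
  · show dl hsurj F (i + 1) (dl hsurj F (i + 2) x + g • y) +
      g • (-tl g hg hsurj hker F (i + 1) x - dl hsurj F (i + 1) y) = 0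
    rw [map_add, map_smul, dl_dl g hg hsurj hker, smul_sub, smul_neg]
    abel
  · show -tl g hg hsurj hker F i (dl hsurj F (i + 2) x + g • y) -
      dl hsurj F i (-tl g hg hsurj hker F (i + 1) x - dl hsurj F (i + 1) y) = 0
    rw [map_add, map_smul, map_sub, map_neg, dl_tl, dl_dl g hg hsurj hker]
    abel

theorem exact_D (i : ℕ) : Function.Exact (D g hg hsurj hker F (i + 1)) (D g hg hsurj hker F i) := fun v => by
  refine ⟨fun hv => ?_, fun ⟨w, hw⟩ => hw ▸ D_D g hg hsurj hker F i w⟩
  obtain ⟨x, y⟩ := v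
  have h1 : dl hsurj F (i + 1) x + g • y = 0 := congrArg Prod.fst hv
  have h2 : F.d (i + 1) (red R _ x) = 0 := by
    have := congrArg (red R _) h1
    rwa [map_add, red_smul hker, add_zero, red_dl, map_zero] at this
  obtain ⟨z, hz⟩ := (F.exact i _).1 h2
  obtain ⟨z', rfl⟩ := red_surjective (B := B) hsurj _ z
  obtain ⟨w, hw⟩ := eq_smul_of_red hg hker (x - dl hsurj F (i + 2) z') (by rw [map_sub, red_dl, hz, sub_self])
  refine ⟨(z', w), ?_⟩
  have hx : dl hsurj F (i + 2) z' + g • w = x := by rw [← hw, add_sub_cancel]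
  have h3 := congrArg Prod.fst (D_D g hg hsurj hker F i (z', w))
  have hw' : D g hg hsurj hker F (i + 1) (z', w) =
      (x, -tl g hg hsurj hker F (i + 1) z' - dl hsurj F (i + 1) w) := by rw [D_apply, hx]
  rw [hw', D_apply] at h3
  rw [hw']
  refine Prod.ext rfl (smul_cancel hg ?_)
  exact add_left_cancel (h3.trans h1.symm)

/-! ### After tensoring -/

open scoped Classical in
/-- Moving `⊗ N` from `B` to `R`. -/
noncomputable def theta (a : Type u) : (a →₀ B) ⊗[B] N ≃ₗ[B] (a →₀ R) ⊗[R] N :=
  (finsuppScalarLeft B N a).trans ((finsuppScalarLeft R N a).symm.restrictScalars B)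

theorem theta_tmul (a : Type u) (x : a →₀ B) (v : N) :
    theta (R := R) N a (x ⊗ₜ v) = red R a x ⊗ₜ v := by
  rw [theta, LinearEquiv.trans_apply, LinearEquiv.restrictScalars_apply, LinearEquiv.symm_apply_eq]
  ext i
  simp [algebraMap_smul]

/-- The coordinates of `T ⊗ N`. -/
noncomputable def coord (i : ℕ) :
    T B F.idx i ⊗[B] N ≃ₗ[B] ((F.idx (i + 1) →₀ R) ⊗[R] N) × ((F.idx i →₀ R) ⊗[R] N) :=
  (TensorProduct.prodLeft B B _ _ N).trans ((theta N _).prodCongr (theta N _))

theorem coord_tmul (i : ℕ) (x : F.idx (i + 1) →₀ B) (y : F.idx i →₀ B) (v : N) :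
    coord F N i ((x, y) ⊗ₜ v) = (red R _ x ⊗ₜ v, red R _ y ⊗ₜ v) := by
  rw [coord, LinearEquiv.trans_apply, TensorProduct.prodLeft_tmul, LinearEquiv.prodCongr_apply, theta_tmul,
    theta_tmul]

/-- The differential of `F ⊗ N`. -/
noncomputable abbrev dN (i : ℕ) : (F.idx (i + 1) →₀ R) ⊗[R] N →ₗ[R] (F.idx i →₀ R) ⊗[R] N := (F.d i).rTensor N

/-- The operator of degree `-2` on `F`. -/
noncomputable def tR (i : ℕ) : (F.idx (i + 2) →₀ R) →ₗ[R] (F.idx i →₀ R) := redMap (tl g hg hsurj hker F i)

/-- The operator of degree `-2` on `F ⊗ N`. -/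
noncomputable abbrev tN (i : ℕ) : (F.idx (i + 2) →₀ R) ⊗[R] N →ₗ[R] (F.idx i →₀ R) ⊗[R] N :=
  (tR g hg hsurj hker F i).rTensor N

theorem coord_D (i : ℕ) (z : T B F.idx (i + 1) ⊗[B] N) :
    coord F N i ((D g hg hsurj hker F i).rTensor N z) =
      (dN F N (i + 1) (coord F N (i + 1) z).1,
        -tN g hg hsurj hker F N i (coord F N (i + 1) z).1 - dN F N i (coord F N (i + 1) z).2) := by
  induction z using TensorProduct.induction_on with
  | zero =>
    simp only [map_zero, Prod.fst_zero, Prod.snd_zero, neg_zero, sub_zero]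
    rfl
  | add p q hp hq =>
    rw [map_add, map_add, hp, hq, map_add, Prod.fst_add, Prod.snd_add, map_add, map_add, map_add, Prod.mk_add_mk]
    congr 1
    abel
  | tmul p v =>
    obtain ⟨x, y⟩ := p
    rw [LinearMap.rTensor_tmul, D_apply, coord_tmul, coord_tmul]
    show _ = ((F.d (i + 1)).rTensor N (red R _ x ⊗ₜ v), -(tR g hg hsurj hker F i).rTensor N (red R _ x ⊗ₜ v) -
      (F.d i).rTensor N (red R _ y ⊗ₜ v))
    rw [LinearMap.rTensor_tmul, LinearMap.rTensor_tmul, LinearMap.rTensor_tmul, tR, ← red_apply, map_add,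
      red_smul hker, add_zero, map_sub, map_neg, red_dl, red_dl, sub_tmul, neg_tmul]

theorem tR_d (i : ℕ) (x : F.idx (i + 3) →₀ R) :
    F.d i (tR g hg hsurj hker F (i + 1) x) = tR g hg hsurj hker F i (F.d (i + 2) x) := by
  obtain ⟨x, rfl⟩ := red_surjective (B := B) hsurj _ x
  unfold tR
  rw [← red_apply, ← red_dl hsurj, ← red_dl hsurj, ← red_apply, dl_tl]

theorem tN_d (i : ℕ) (x : (F.idx (i + 3) →₀ R) ⊗[R] N) :
    dN F N i (tN g hg hsurj hker F N (i + 1) x) = tN g hg hsurj hker F N i (dN F N (i + 2) x) := by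
  show ((F.d i).rTensor N) (((tR g hg hsurj hker F (i + 1)).rTensor N) x) =
    ((tR g hg hsurj hker F i).rTensor N) (((F.d (i + 2)).rTensor N) x)
  rw [← LinearMap.rTensor_comp_apply, ← LinearMap.rTensor_comp_apply]
  exact congrArg (fun f => LinearMap.rTensor N f x) (LinearMap.ext fun y => tR_d g hg hsurj hker F i y)

variable {k : ℕ} (hk : TorLE B k M)

include hk in
theorem exact_DN (j : ℕ) (hj : k ≤ j) :
    Function.Exact ((D g hg hsurj hker F (j + 1)).rTensor N) ((D g hg hsurj hker F j).rTensor N) :=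
  exact_rTensor_of_torLE N j k hj (T B F.idx) (D g hg hsurj hker F) M (aug F) (aug_surjective hsurj F)
    (exact_aug g hg hsurj hker F) (exact_D g hg hsurj hker F) hk

include hk in
theorem exists_tN_eq (q : ℕ) (hq : k ≤ q) (w) (hw : dN F N q w = 0) :
    ∃ u, dN F N (q + 2) u = 0 ∧ tN g hg hsurj hker F N (q + 1) u - w ∈ LinearMap.range (dN F N (q + 1)) := by
  let z := (coord (B := B) F N (q + 1)).symm (0, w)
  have hz : coord (B := B) F N (q + 1) z = (0, w) := LinearEquiv.apply_symm_apply _ _
  have h0 : (D g hg hsurj hker F q).rTensor N z = 0 := (coord F N q).injective <| by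
    rw [map_zero, coord_D, hz, map_zero, map_zero, hw]
    simp
  obtain ⟨z', hz'⟩ := (exact_DN g hg hsurj hker F N hk q hq z).1 h0
  have h := coord_D g hg hsurj hker F N (q + 1) z'
  rw [hz', hz, Prod.mk.injEq] at h
  refine ⟨-(coord F N (q + 2) z').1, ?_, (coord F N (q + 2) z').2, ?_⟩
  · rw [map_neg, ← h.1, neg_zero]
  · rw [map_neg, h.2]
    abel

include hk in
theorem mem_range_of_tN (q : ℕ) (hq : k ≤ q) (u) (hu : dN F N (q + 2) u = 0)
    (h : tN g hg hsurj hker F N (q + 1) u ∈ LinearMap.range (dN F N (q + 1))) :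
    u ∈ LinearMap.range (dN F N (q + 3)) := by
  obtain ⟨w, hw⟩ := h
  let z := (coord (B := B) F N (q + 2)).symm (u, -w)
  have hz : coord (B := B) F N (q + 2) z = (u, -w) := LinearEquiv.apply_symm_apply _ _
  have h0 : (D g hg hsurj hker F (q + 1)).rTensor N z = 0 := (coord F N (q + 1)).injective <| by
    rw [map_zero, coord_D, hz, hu]
    rw [map_neg, hw, sub_neg_eq_add, neg_add_cancel]
    rfl
  obtain ⟨z', hz'⟩ := (exact_DN g hg hsurj hker F N hk (q + 1) (by omega) z).1 h0
  have h := coord_D g hg hsurj hker F N (q + 2) z'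
  rw [hz', hz, Prod.mk.injEq] at h
  exact ⟨(coord F N (q + 3) z').1, h.1.symm⟩

theorem smul_tN_mem_range (δ : Derivation A B B) (q : ℕ) (u) (hu : dN F N (q + 1) u = 0) :
    algebraMap B R (δ g) • tN g hg hsurj hker F N q u ∈ LinearMap.range (dN F N q) := by
  let e : ∀ i, (F.idx (i + 1) →₀ R) →ₗ[R] (F.idx i →₀ R) := fun i => redMap (dMap δ (dl hsurj F i))
  have h : e q ∘ₗ F.d (q + 1) + F.d q ∘ₗ e (q + 1) =
      algebraMap B R (δ g) • tR g hg hsurj hker F q := LinearMap.ext fun x => by
    obtain ⟨x, rfl⟩ := red_surjective (B := B) hsurj _ x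
    have h1 := congrArg (coeffDer δ) (dl_dl g hg hsurj hker F q x)
    rw [coeffDer_apply, coeffDer_apply, map_add, coeffDer_smul, coeffDer_apply, smul_add,
      dl_dl g hg hsurj hker F q (coeffDer δ x), ← add_assoc, ← add_assoc, add_left_inj] at h1
    have h2 := congrArg (red R _) h1
    rw [map_add, map_add, map_smul, red_smul hker, add_zero, red_apply, red_dl hsurj, red_dl hsurj, red_apply,
      red_apply] at h2
    rw [LinearMap.smul_apply, algebraMap_smul]
    exact h2
  have h' := congrArg (fun f => LinearMap.rTensor N f u) h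
  simp only [LinearMap.rTensor_add, LinearMap.rTensor_comp, LinearMap.rTensor_smul, LinearMap.add_apply,
    LinearMap.comp_apply, LinearMap.smul_apply] at h'
  rw [show (F.d (q + 1)).rTensor N u = 0 from hu, map_zero, zero_add] at h'
  exact ⟨(e (q + 1)).rTensor N u, h'⟩

/-- The homology of `F ⊗ N`. -/
abbrev H (q : ℕ) : Type u :=
  LinearMap.ker (dN F N q) ⧸ (LinearMap.range (dN F N (q + 1))).comap (LinearMap.ker (dN F N q)).subtype

/-- The periodicity map on homology. -/
noncomputable def tH (q : ℕ) : H F N (q + 2) →ₗ[R] H F N q :=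
  Submodule.mapQ _ _ ((tN g hg hsurj hker F N (q + 1)).restrict (p := LinearMap.ker (dN F N (q + 2)))
      (q := LinearMap.ker (dN F N q)) fun u hu => by
        rw [LinearMap.mem_ker, tN_d, LinearMap.mem_ker.1 hu, map_zero])
    (by
      rintro ⟨x, hx⟩ ⟨y, hy⟩
      refine ⟨tN g hg hsurj hker F N (q + 2) y, ?_⟩
      rw [tN_d]
      exact congrArg _ hy)

include hk in
theorem tH_bijective (q : ℕ) (hq : k ≤ q) : Function.Bijective (tH g hg hsurj hker F N q) := by
  constructor
  · rw [injective_iff_map_eq_zero]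
    intro x hx
    obtain ⟨⟨u, hu⟩, rfl⟩ := Submodule.Quotient.mk_surjective _ x
    rw [Submodule.Quotient.mk_eq_zero]
    rw [tH, Submodule.mapQ_apply, Submodule.Quotient.mk_eq_zero] at hx
    exact mem_range_of_tN g hg hsurj hker F N hk q hq u hu hx
  · intro x
    obtain ⟨⟨w, hw⟩, rfl⟩ := Submodule.Quotient.mk_surjective _ x
    obtain ⟨u, hu, h⟩ := exists_tN_eq g hg hsurj hker F N hk q hq w hw
    exact ⟨Submodule.Quotient.mk ⟨u, hu⟩, (Submodule.Quotient.eq _).2 h⟩

include hg hsurj hker hk in
theorem smul_H_eq_zero (δ : Derivation A B B) (q : ℕ) (hq : k ≤ q) (x : H F N q) :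
    algebraMap B R (δ g) • x = 0 := by
  obtain ⟨y, rfl⟩ := (tH_bijective g hg hsurj hker F N hk q hq).2 x
  obtain ⟨⟨u, hu⟩, rfl⟩ := Submodule.Quotient.mk_surjective _ y
  rw [tH, Submodule.mapQ_apply, ← Submodule.Quotient.mk_smul, Submodule.Quotient.mk_eq_zero]
  exact smul_tN_mem_range g hg hsurj hker F N δ (q + 1) u hu

end main

end GrothLib.HypTor16
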