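import Groth.Agent.Lib.HypTor16.TorLE
import Mathlib.RingTheory.RingHom.StandardSmooth
import Mathlib.RingTheory.Smooth.StandardSmoothOfFree
import Mathlib.RingTheory.Etale.Kaehler
import Mathlib.RingTheory.Spectrum.Prime.FreeLocus
import Mathlib.Algebra.MvPolynomial.Equiv

/-!
# Flat dimension along a smooth algebra
-/

set_option autoImplicit false
set_option linter.style.haveILetI false
universe u

open TensorProduct

namespace GrothLib.HypTor16

/-- Flat dimension grows by at most `n` from `A` to `C`. -/
def DimLE (A C : Type u) [CommRing A] [CommRing C] [Algebra A C] (n : ℕ) : Prop :=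
  ∀ (X : Type u) [AddCommGroup X] [Module A X] [Module C X] [IsScalarTower A C X] (m : ℕ),
    TorLE A m X → TorLE C (m + n) X

variable {A C D : Type u} [CommRing A] [CommRing C] [CommRing D] [Algebra A C] [Algebra A D]

theorem DimLE.comp [Algebra C D] [IsScalarTower A C D] {n k : ℕ} (h₁ : DimLE A C n) (h₂ : DimLE C D k) :
    DimLE A D (n + k) := by
  intro X _ _ _ _ m hX
  letI : Module C X := Module.compHom X (algebraMap C D)
  haveI : IsScalarTower C D X := IsScalarTower.of_algebraMap_smul fun c x => rfl
  haveI : IsScalarTower A C X := IsScalarTower.of_algebraMap_smul fun a x => by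
    show algebraMap C D (algebraMap A C a) • x = a • x
    rw [← IsScalarTower.algebraMap_apply, algebraMap_smul]
  rw [← add_assoc]
  exact h₂ X (m + n) (h₁ X m hX)

/-- An unramified flat algebra. -/
theorem dimLE_of_unramified (A C : Type u) [CommRing A] [CommRing C] [Algebra A C] [Module.Flat A C]
    [Algebra.FormallyUnramified A C] [Algebra.EssFiniteType A C] : DimLE A C 0 := by
  intro X _ _ _ _ m hX
  exact TorLE.of_retract (Algebra.FormallyUnramified.sec A C X) _ (Algebra.FormallyUnramified.comp_sec A C X)
    (TorLE.baseChange C m X hX)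

theorem dimLE_of_bijective (A C : Type u) [CommRing A] [CommRing C] [Algebra A C]
    (h : Function.Bijective (algebraMap A C)) : DimLE A C 0 := by
  let e : A ≃ₐ[A] C := AlgEquiv.ofBijective (Algebra.ofId A C) h
  haveI : Module.Flat A C := Module.Flat.of_linearEquiv e.symm.toLinearEquiv
  haveI : Algebra.FormallyUnramified A C := Algebra.FormallyUnramified.of_surjective e.toAlgHom e.surjective
  haveI : Algebra.EssFiniteType A C := Algebra.EssFiniteType.of_surjective e.toAlgHom e.surjective
  exact dimLE_of_unramified A C

theorem DimLE.congr (e : C ≃ₐ[A] D) {n : ℕ} (h : DimLE A C n) : DimLE A D n := by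
  letI : Algebra C D := e.toAlgHom.toRingHom.toAlgebra
  haveI : IsScalarTower A C D := IsScalarTower.of_algebraMap_eq fun a => (e.commutes a).symm
  have := h.comp (dimLE_of_bijective C D e.bijective)
  rwa [add_zero] at this

section polynomial

open Polynomial

variable (A)

/-- One variable. -/
theorem dimLE_polynomial : DimLE A A[X] 1 := by
  intro M _ _ _ _ m hM
  let mX : M →ₗ[A] M := ((LinearMap.lsmul A[X] M) Polynomial.X).restrictScalars A
  let ψ : A[X] ⊗[A] M →ₗ[A[X]] A[X] ⊗[A] M :=
    (Polynomial.X : A[X]) • LinearMap.id - mX.baseChange A[X]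
  let π : A[X] ⊗[A] M →ₗ[A[X]] M := (LinearMap.id : M →ₗ[A] M).liftBaseChange A[X]
  have hπ : ∀ (p : A[X]) (v : M), π (p ⊗ₜ v) = p • v := fun p v => LinearMap.liftBaseChange_tmul _ _ _ _
  have hψ : ∀ (p : A[X]) (v : M), ψ (p ⊗ₜ v) = (Polynomial.X * p) ⊗ₜ v - p ⊗ₜ ((Polynomial.X : A[X]) • v) :=
    fun p v => by simp [ψ, mX, smul_tmul']
  have hcomp : ∀ z, π (ψ z) = 0 := fun z => by
    induction z using TensorProduct.induction_on with
    | zero => simp
    | add a b ha hb => rw [map_add, map_add, ha, hb, add_zero]
    | tmul p v => rw [hψ, map_sub, hπ, hπ, ← mul_smul, mul_comm p, sub_self]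
  have hdec : ∀ z, z - (1 : A[X]) ⊗ₜ[A] π z ∈ LinearMap.range ψ := fun z => by
    induction z using TensorProduct.induction_on with
    | zero => simp
    | add a b ha hb =>
      rw [map_add, tmul_add, add_sub_add_comm]
      exact add_mem ha hb
    | tmul p v =>
      rw [hπ]
      induction p using Polynomial.induction_on generalizing v with
      | C a =>
        have h1 : (Polynomial.C a : A[X]) = a • (1 : A[X]) := by rw [Polynomial.smul_eq_C_mul, mul_one]
        rw [h1, smul_assoc, one_smul, smul_tmul, sub_self]
        exact zero_mem _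
      | add p q hp hq =>
        rw [add_tmul, add_smul, tmul_add, add_sub_add_comm]
        exact add_mem (hp v) (hq v)
      | monomial k a ih =>
        rw [pow_succ, ← mul_assoc]
        generalize Polynomial.C a * Polynomial.X ^ k = p at ih ⊢
        have := add_mem (LinearMap.mem_range_self ψ (p ⊗ₜ v)) (ih ((Polynomial.X : A[X]) • v))
        rw [hψ] at this
        convert this using 1
        rw [← mul_smul, mul_comm p]
        abel
  let c : ℕ → A[X] ⊗[A] M →ₗ[A] M := fun k =>
    TensorProduct.lift ((LinearMap.lsmul A M).comp (Polynomial.lcoeff A k))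
  have hc : ∀ k (p : A[X]) (v : M), c k (p ⊗ₜ v) = p.coeff k • v := fun k p v => rfl
  let E := TensorProduct.equivFinsuppOfBasisLeft (Polynomial.basisMonomials A) (N := M)
  have hE : ∀ z k, E z k = c k z := fun z k => by
    induction z using TensorProduct.induction_on with
    | zero => simp
    | add a b ha hb => simp [map_add, ha, hb]
    | tmul p v =>
      rw [hc, TensorProduct.equivFinsuppOfBasisLeft_apply_tmul]
      simp [Polynomial.basisMonomials]
      rfl
  have hrec : ∀ z k, c (k + 1) (ψ z) = c k z - (Polynomial.X : A[X]) • c (k + 1) z := fun z k => by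
    induction z using TensorProduct.induction_on with
    | zero => simp
    | add a b ha hb => rw [map_add, map_add, map_add, map_add, ha, hb, smul_add]; abel
    | tmul p v =>
      rw [hψ, map_sub, hc, hc, hc, hc, Polynomial.coeff_X_mul,
        smul_comm (Polynomial.X : A[X]) (p.coeff (k + 1)) v]
  have hinj : Function.Injective ψ := by
    refine (injective_iff_map_eq_zero ψ).2 fun z hz => E.injective ?_
    rw [map_zero]
    have hst : ∀ k, c k z = (Polynomial.X : A[X]) • c (k + 1) z := fun k => by
      have := hrec z k
      rw [hz, map_zero] at this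
      exact sub_eq_zero.1 this.symm
    have hdown : ∀ j k, c (k + j) z = 0 → c k z = 0 := fun j => by
      induction j with
      | zero => exact fun k hk => hk
      | succ j ih =>
        intro k hk
        refine ih k ?_
        rw [hst, add_assoc, hk, smul_zero]
    ext k
    rw [hE]
    refine hdown ((E z).support.sup id + 1) k ?_
    rw [← hE, ← Finsupp.notMem_support_iff]
    intro hmem
    have := Finset.le_sup (f := id) hmem
    simp only [id] at this
    omega
  have hexact : Function.Exact ψ π := fun z => ⟨fun hz => by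
    have := hdec z
    rw [hz, tmul_zero, sub_zero] at this
    exact this, fun ⟨w, hw⟩ => hw ▸ hcomp w⟩
  have hsurj : Function.Surjective π := fun v => ⟨1 ⊗ₜ v, by rw [hπ, one_smul]⟩
  have hT := TorLE.baseChange A[X] m M hM
  exact hT.quotient ψ π hinj hexact hsurj hT

theorem dimLE_mvPolynomial : ∀ n : ℕ, DimLE A (MvPolynomial (Fin n) A) n
  | 0 => dimLE_of_bijective A _ ⟨MvPolynomial.C_injective _ _, MvPolynomial.C_surjective (Fin 0)⟩
  | n + 1 => ((dimLE_mvPolynomial n).comp (dimLE_polynomial (MvPolynomial (Fin n) A))).congr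
      (MvPolynomial.finSuccEquiv A n).symm

end polynomial

/-- **Flat dimension along a smooth algebra of relative dimension `n`.** -/
theorem dimLE_smooth (A B : Type u) [CommRing A] [CommRing B] [Algebra A B] [Algebra.Smooth A B] (n : ℕ)
    (hn : ∀ p : PrimeSpectrum B, Module.rankAtStalk (Ω[B⁄A]) p = n) : DimLE A B n := by
  intro X _ _ _ _ m hX
  refine torLE_of_localization _ _ fun P hP => ?_
  obtain ⟨s, hs, hstd⟩ := Algebra.Smooth.exists_span_eq_top_isStandardSmooth A B
  obtain ⟨f, hfs, hf⟩ : ∃ f ∈ s, f ∉ P := by
    by_contra h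
    push Not at h
    exact hP.ne_top (top_le_iff.1 (hs ▸ Ideal.span_le.2 h))
  haveI := hstd f hfs
  let L := Localization.Away f
  let BP := Localization.AtPrime P
  have hu : IsUnit (algebraMap B BP f) := IsLocalization.map_units BP (⟨f, hf⟩ : P.primeCompl)
  letI : Algebra L BP := (IsLocalization.Away.lift f hu).toAlgebra
  haveI : IsScalarTower B L BP := IsScalarTower.of_algebraMap_eq fun b => (IsLocalization.Away.lift_eq f hu b).symm
  haveI : IsScalarTower A L BP := IsScalarTower.of_algebraMap_eq fun a => by
    rw [IsScalarTower.algebraMap_apply A B BP, IsScalarTower.algebraMap_apply A B L,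
      IsScalarTower.algebraMap_apply B L BP]
  haveI : Nontrivial L := (algebraMap L BP).domain_nontrivial
  have hle : Submonoid.powers f ≤ P.primeCompl := Submonoid.powers_le.2 hf
  haveI : IsLocalization (P.primeCompl.map (algebraMap B L)) BP :=
    IsLocalization.isLocalization_of_submonoid_le L BP (Submonoid.powers f) P.primeCompl hle
  haveI : Algebra.FormallyEtale B L := Algebra.FormallyEtale.of_isLocalization (Submonoid.powers f)
  have hr : Module.rank L Ω[L⁄A] = n := by
    let e := KaehlerDifferential.tensorKaehlerEquivOfFormallyEtale A B L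
    obtain ⟨q⟩ := (inferInstance : Nonempty (PrimeSpectrum L))
    have h1 : Module.finrank L Ω[L⁄A] = n := by
      have h2 : Module.rankAtStalk Ω[L⁄A] q = n := by
        rw [← Module.rankAtStalk_eq_of_equiv e, Module.rankAtStalk_baseChange]
        exact hn _
      rw [Module.rankAtStalk_eq_finrank_of_free] at h2
      simpa using h2
    rw [← Module.finrank_eq_rank L Ω[L⁄A], h1]
  haveI : Algebra.IsStandardSmoothOfRelativeDimension n A L :=
    (Algebra.IsStandardSmoothOfRelativeDimension.iff_of_isStandardSmooth n).2 hr
  obtain ⟨g, hg⟩ := Algebra.IsStandardSmoothOfRelativeDimension.exists_etale_mvPolynomial A L (n := n)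
  let P₀ := MvPolynomial (Fin n) A
  letI : Algebra P₀ L := g.toRingHom.toAlgebra
  haveI : Algebra.Etale P₀ L := hg
  haveI : IsScalarTower A P₀ L := IsScalarTower.of_algebraMap_eq fun a => (g.commutes a).symm
  haveI : Module.Flat P₀ L := inferInstance
  letI : Algebra P₀ BP := ((algebraMap L BP).comp g.toRingHom).toAlgebra
  haveI : IsScalarTower P₀ L BP := IsScalarTower.of_algebraMap_eq fun _ => rfl
  haveI : IsScalarTower A P₀ BP := IsScalarTower.of_algebraMap_eq fun a => by
    rw [IsScalarTower.algebraMap_apply P₀ L BP, ← IsScalarTower.algebraMap_apply A P₀ L,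
      ← IsScalarTower.algebraMap_apply A L BP]
  haveI : Module.Flat L BP := IsLocalization.flat BP (P.primeCompl.map (algebraMap B L))
  haveI : Module.Flat P₀ BP := Module.Flat.trans P₀ L BP
  haveI : Algebra.FormallyUnramified L BP :=
    Algebra.FormallyUnramified.of_isLocalization (P.primeCompl.map (algebraMap B L))
  haveI : Algebra.FormallyUnramified P₀ BP := Algebra.FormallyUnramified.comp P₀ L BP
  haveI : Algebra.EssFiniteType L BP := Algebra.EssFiniteType.of_isLocalization BP (P.primeCompl.map (algebraMap B L))
  haveI : Algebra.EssFiniteType P₀ BP := Algebra.EssFiniteType.comp P₀ L BP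
  have hd : DimLE A BP (n + 0) := (dimLE_mvPolynomial A n).comp (dimLE_of_unramified P₀ BP)
  exact hd (BP ⊗[B] X) m (TorLE.flat_tensor BP X hX)

end GrothLib.HypTor16
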