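import Groth.Agent.Lib.HypTor16.Hyp
import Groth.Agent.Lib.HypTor16.Smooth

/-!
# `Tor` over a hypersurface in a smooth algebra
-/

set_option autoImplicit false
set_option linter.style.haveILetI false
set_option maxHeartbeats 400000
set_option backward.isDefEq.respectTransparency false
universe u

open CategoryTheory CategoryTheory.Limits TensorProduct MonoidalCategory

namespace GrothLib.HypTor16

section complexes

variable {R : Type u} [CommRing R] {M : Type u} [AddCommGroup M] [Module R M] (F : Res R M)

/-- The complex of a resolution. -/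
noncomputable def cx : ChainComplex (ModuleCat.{u} R) ℕ :=
  ChainComplex.of (fun i => ModuleCat.of R (F.idx (i + 1) →₀ R)) (fun i => ModuleCat.ofHom (F.d (i + 1)))
    fun i => ModuleCat.hom_ext (LinearMap.ext fun x => F.d_d (i + 1) x)

theorem cx_d (i : ℕ) : (cx F).d (i + 1) i = ModuleCat.ofHom (F.d (i + 1)) :=
  ChainComplex.of_d (fun i => ModuleCat.of R (F.idx (i + 1) →₀ R)) (fun i => ModuleCat.ofHom (F.d (i + 1))) i

theorem cx_d_aug : (cx F).d 1 0 ≫ ModuleCat.ofHom F.ε = 0 := by
  rw [cx_d]
  exact ModuleCat.hom_ext (LinearMap.ext fun x => F.exact₀.apply_apply_eq_zero x)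

/-- The projective resolution of a free resolution. -/
noncomputable def projRes : ProjectiveResolution (ModuleCat.of R M) where
  complex := cx F
  projective i := (IsProjective.iff_projective _).1
    (show Module.Projective R (F.idx (i + 1) →₀ R) from inferInstance)
  π := (ChainComplex.toSingle₀Equiv _ _).symm ⟨ModuleCat.ofHom F.ε, cx_d_aug F⟩
  quasiIso := ⟨fun i => by
    cases i with
    | zero =>
      rw [ChainComplex.quasiIsoAt₀_iff, ShortComplex.quasiIso_iff_of_zeros']
      · refine ⟨(ShortComplex.moduleCat_exact_iff _).2 fun v hv => ?_, (ModuleCat.epi_iff_surjective _).2 ?_⟩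
        · have hv' : F.ε v = 0 := by
            have h := hv
            simp [ChainComplex.toSingle₀Equiv_symm_apply_f_zero] at h
            exact h
          obtain ⟨w, hw⟩ := (F.exact₀ v).1 hv'
          refine ⟨w, ?_⟩
          show ((cx F).d 1 0).hom w = v
          rw [cx_d F 0]
          exact hw
        · intro x
          obtain ⟨v, hv⟩ := F.surjective x
          refine ⟨v, ?_⟩
          simp [ChainComplex.toSingle₀Equiv_symm_apply_f_zero]
          exact hv
      · exact (cx F).shape _ _ (by simp)
      · rfl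
      · rfl
    | succ i =>
      rw [quasiIsoAt_iff_exactAt' _ _ (HomologicalComplex.exactAt_single_obj _ _ _ _ (by simp)),
        HomologicalComplex.exactAt_iff' _ (i + 1 + 1) (i + 1) i (by simp) (by simp)]
      refine (ShortComplex.moduleCat_exact_iff _).2 fun v hv => ?_
      have hv' : F.d (i + 1) v = 0 := by
        have h : ((cx F).d (i + 1) i).hom v = 0 := hv
        rwa [cx_d F i] at h
      obtain ⟨w, hw⟩ := (F.exact i v).1 hv'
      refine ⟨w, ?_⟩
      show ((cx F).d (i + 1 + 1) (i + 1)).hom w = v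
      rw [cx_d F (i + 1)]
      exact hw⟩

variable (N : ModuleCat.{u} R)

/-- The resolution tensored with a module. -/
noncomputable abbrev cxN : ChainComplex (ModuleCat.{u} R) ℕ :=
  ((tensorRight N).mapHomologicalComplex (ComplexShape.down ℕ)).obj (cx F)

theorem range_d (q : ℕ) : LinearMap.range ((cxN F N).d (q + 1) q).hom = LinearMap.range (dN F N (q + 1)) := by
  show LinearMap.range ((cx F).d (q + 1) q ▷ N).hom = _
  rw [cx_d]
  rfl

theorem ker_d (q : ℕ) :
    LinearMap.ker ((cxN F N).d q ((ComplexShape.down ℕ).next q)).hom = LinearMap.ker (dN F N q) := by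
  cases q with
  | zero =>
    have h0 : (cxN F N).d 0 ((ComplexShape.down ℕ).next 0) = 0 := (cxN F N).shape _ _ (by simp)
    rw [h0]
    haveI := F.subsingleton R
    refine ((LinearMap.ker_zero).trans ?_)
    symm
    refine LinearMap.ker_eq_top.2 ?_
    show (F.d 0).rTensor N = 0
    rw [show F.d 0 = 0 from LinearMap.ext fun x => Subsingleton.elim _ _, LinearMap.rTensor_zero]
  | succ q =>
    rw [ChainComplex.next_nat_succ q]
    show LinearMap.ker ((cx F).d (q + 1) q ▷ N).hom = _
    rw [cx_d]
    rfl

theorem nonempty_homology_equiv (S : ShortComplex (ModuleCat.{u} R)) (Z W : Submodule R S.X₂)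
    (hZ : LinearMap.ker S.g.hom = Z) (hW : LinearMap.range S.f.hom = W) :
    Nonempty (S.homology ≅ ModuleCat.of R (Z ⧸ W.comap Z.subtype)) := by
  subst hZ hW
  refine ⟨S.moduleCatHomologyIso ≪≫ (Submodule.quotEquivOfEq _ _ ?_).toModuleIso⟩
  ext ⟨x, hx⟩
  constructor
  · rintro ⟨y, hy⟩
    exact ⟨y, congrArg Subtype.val hy⟩
  · rintro ⟨y, hy⟩
    exact ⟨y, Subtype.ext hy⟩

theorem nonempty_tor_iso_H (q : ℕ) :
    Nonempty (((CategoryTheory.Tor (ModuleCat.{u} R) q).obj (ModuleCat.of R M)).obj N ≅
      ModuleCat.of R (H F N q)) := by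
  obtain ⟨e⟩ := GrothLib.TorBal22.nonempty_tor_iso (projRes F) N q
  obtain ⟨e'⟩ := nonempty_homology_equiv ((cxN F N).sc' (q + 1) q ((ComplexShape.down ℕ).next q))
    (LinearMap.ker (dN F N q)) (LinearMap.range (dN F N (q + 1))) (ker_d F N q) (range_d F N q)
  exact ⟨e ≪≫ ShortComplex.homologyMapIso ((cxN F N).isoSc' (q + 1) q _ (by simp) rfl) ≪≫ e'⟩

end complexes

variable {A B R : Type u} [CommRing A] [CommRing B] [CommRing R] [Algebra A B] [Algebra B R] [Algebra A R]
  [IsScalarTower A B R] [Algebra.Smooth A B] {n : ℕ}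

/-- Over a hypersurface in a smooth algebra `Tor` is periodic and killed by the partial derivatives. -/
theorem periodic (hn : ∀ p : PrimeSpectrum B, Module.rankAtStalk (Ω[B⁄A]) p = n) {g : B}
    (hg : IsSMulRegular B g) (hsurj : Function.Surjective (algebraMap B R))
    (hker : RingHom.ker (algebraMap B R) = Ideal.span {g}) {m : ℕ} (M N : ModuleCat.{u} R)
    (hM : ∀ (P : ModuleCat.{u} A) (i : ℕ), m < i →
      IsZero (((Tor (ModuleCat.{u} A) i).obj ((ModuleCat.restrictScalars (algebraMap A R)).obj M)).obj P))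
    (q : ℕ) (hq : m + n ≤ q) :
    Nonempty (((Tor (ModuleCat.{u} R) (q + 2)).obj M).obj N ≅ ((Tor (ModuleCat.{u} R) q).obj M).obj N) ∧
      ∀ (φ : Ω[B⁄A] →ₗ[B] B), algebraMap B R (φ (KaehlerDifferential.D A B g)) ∈
        Module.annihilator R (((Tor (ModuleCat.{u} R) q).obj M).obj N) := by
  letI : Module B M := Module.compHom M (algebraMap B R)
  haveI : IsScalarTower B R M := IsScalarTower.of_algebraMap_smul fun b x => rfl
  letI : Module A M := Module.compHom M (algebraMap A R)
  haveI : IsScalarTower A B M := IsScalarTower.of_algebraMap_smul fun a x => by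
    show algebraMap B R (algebraMap A B a) • x = algebraMap A R a • x
    rw [← IsScalarTower.algebraMap_apply]
  letI : Module B N := Module.compHom N (algebraMap B R)
  haveI : IsScalarTower B R N := IsScalarTower.of_algebraMap_smul fun b x => rfl
  have hA : TorLE A m M := fun P i => hM P (i + m + 1) (by omega)
  have hk : TorLE B (m + n) M := dimLE_smooth A B n hn M m hA
  let F := stdRes R M
  obtain ⟨e₂⟩ := nonempty_tor_iso_H F N (q + 2)
  obtain ⟨e⟩ := nonempty_tor_iso_H F N q
  refine ⟨⟨e₂ ≪≫ (LinearEquiv.ofBijective _ (tH_bijective g hg hsurj hker F N hk q hq)).toModuleIso ≪≫ e.symm⟩,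
    fun φ => Module.mem_annihilator.2 fun x => e.toLinearEquiv.injective ?_⟩
  rw [map_smul, map_zero]
  exact smul_H_eq_zero g hg hsurj hker F N hk (φ.compDer (KaehlerDifferential.D A B)) q hq _

end GrothLib.HypTor16
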