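import Groth.Agent.Lib.FlatFP.TorShift
import Groth.Agent.Lib.HomDimCrit.Basic
import Mathlib.RingTheory.Flat.Localization
import Mathlib.RingTheory.Unramified.Finite
import Mathlib.RingTheory.Unramified.Basic
import Mathlib.Algebra.Module.LocalizedModule.Basic
import Mathlib.RingTheory.TensorProduct.Free
import Mathlib.Algebra.Polynomial.Basis

/-!
# Flat dimension of a module, measured by `Tor`
-/

set_option autoImplicit false
set_option linter.style.haveILetI false
universe u

open CategoryTheory TensorProduct

namespace GrothLib.HypTor16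

/-- `Tor_i(X, -) = 0` for `i > d`. -/
def TorLE (R : Type u) [CommRing R] (d : ℕ) (X : Type u) [AddCommGroup X] [Module R X] : Prop :=
  ∀ (N : ModuleCat.{u} R) (i : ℕ),
    Limits.IsZero (((CategoryTheory.Tor (ModuleCat.{u} R) (i + d + 1)).obj (ModuleCat.of R X)).obj N)

section

variable {R : Type u} [CommRing R] {X Y K F : Type u} [AddCommGroup X] [Module R X] [AddCommGroup Y] [Module R Y]
  [AddCommGroup K] [Module R K] [AddCommGroup F] [Module R F]

theorem torLE_zero_iff : TorLE R 0 X ↔ Module.Flat R X := by
  refine ⟨fun h => (GrothLib.FlatFP.forall_isZero_tor_one_iff_flat (ModuleCat.of R X)).1 fun N => h N 0,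
    fun h N i => ?_⟩
  haveI : Module.Flat R (ModuleCat.of R X) := h
  exact GrothLib.FlatFP.isZero_tor_succ_of_flat _ N i

theorem TorLE.succ {d : ℕ} (h : TorLE R d X) : TorLE R (d + 1) X := fun N i => by
  rw [show i + (d + 1) + 1 = i + 1 + d + 1 by omega]
  exact h N (i + 1)

theorem TorLE.mono {d d' : ℕ} (hd : d ≤ d') (h : TorLE R d X) : TorLE R d' X := by
  induction hd with
  | refl => exact h
  | step _ ih => exact ih.succ

/-- A short exact sequence from maps of modules. -/
theorem shortExact_mk (a : K →ₗ[R] F) (b : F →ₗ[R] X) (ha : Function.Injective a) (hab : Function.Exact a b)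
    (hb : Function.Surjective b) :
    (ShortComplex.mk (ModuleCat.ofHom a) (ModuleCat.ofHom b)
      (ModuleCat.hom_ext (LinearMap.ext fun z => hab.apply_apply_eq_zero z))).ShortExact where
  exact := (ShortComplex.moduleCat_exact_iff _).2 fun x hx => (hab x).1 hx
  mono_f := (ModuleCat.mono_iff_injective _).2 ha
  epi_g := (ModuleCat.epi_iff_surjective _).2 hb

/-- Dimension shifting. -/
theorem torLE_succ_iff [Module.Flat R F] (a : K →ₗ[R] F) (b : F →ₗ[R] X) (ha : Function.Injective a)
    (hab : Function.Exact a b) (hb : Function.Surjective b) (d : ℕ) : TorLE R (d + 1) X ↔ TorLE R d K :=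
  forall_congr' fun N => forall_congr' fun i => by
    haveI : Module.Flat R (ShortComplex.mk (ModuleCat.ofHom a) (ModuleCat.ofHom b)
      (ModuleCat.hom_ext (LinearMap.ext fun z => hab.apply_apply_eq_zero z))).X₂ :=
      inferInstanceAs (Module.Flat R F)
    exact GrothLib.FlatFP.isZero_tor_succ_iff _ (shortExact_mk a b ha hab hb) N (i + d)

theorem TorLE.of_retract {d : ℕ} (s : X →ₗ[R] Y) (r : Y →ₗ[R] X) (h : r ∘ₗ s = LinearMap.id)
    (hY : TorLE R d Y) : TorLE R d X := fun N i => by
  let T := CategoryTheory.Tor (ModuleCat.{u} R) (i + d + 1)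
  refine (Limits.IsZero.iff_id_eq_zero _).2 ?_
  have h1 : (T.map (ModuleCat.ofHom s)).app N ≫ (T.map (ModuleCat.ofHom r)).app N = 𝟙 _ := by
    rw [← NatTrans.comp_app, ← T.map_comp,
      show ModuleCat.ofHom s ≫ ModuleCat.ofHom r = 𝟙 _ from ModuleCat.hom_ext h, T.map_id, NatTrans.id_app]
  rw [← h1, (hY N i).eq_zero_of_tgt ((T.map (ModuleCat.ofHom s)).app N), Limits.zero_comp]

/-- The quotient of modules of flat dimension `≤ d` has flat dimension `≤ d + 1`. -/
theorem TorLE.quotient {d : ℕ} (a : K →ₗ[R] F) (b : F →ₗ[R] X) (ha : Function.Injective a)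
    (hab : Function.Exact a b) (hb : Function.Surjective b) (hK : TorLE R d K) (hF : TorLE R d F) :
    TorLE R (d + 1) X := fun N i => by
  have hT := GrothLib.FlatFP.torSeq_shortExact _ (shortExact_mk a b ha hab hb) N
  have h3 := hT.homology_exact₃ (i + d + 2) (i + d + 1) (by simp)
  refine (GrothLib.FlatFP.isZero_tor_iff _ N _).2 (h3.isZero_of_both_zeros ?_ ?_)
  · refine Limits.IsZero.eq_of_src ((GrothLib.FlatFP.isZero_tor_iff _ N _).1 ?_) _ _
    exact hF.succ N i
  · refine Limits.IsZero.eq_of_tgt ((GrothLib.FlatFP.isZero_tor_iff _ N _).1 ?_) _ _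
    exact hK N i

variable (R X) in
/-- The free cover. -/
noncomputable abbrev cover : (X →₀ R) →ₗ[R] X := Finsupp.linearCombination R id

theorem cover_surjective : Function.Surjective (cover R X) := Finsupp.linearCombination_id_surjective R X

theorem exact_cover : Function.Exact (LinearMap.ker (cover R X)).subtype (cover R X) :=
  LinearMap.exact_subtype_ker_map _

/-- A flat quotient makes tensoring keep the injection. -/
theorem rTensor_injective_of_flat [Module.Flat R X] (a : K →ₗ[R] F) (b : F →ₗ[R] X) (ha : Function.Injective a)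
    (hab : Function.Exact a b) (hb : Function.Surjective b) (N : Type u) [AddCommGroup N] [Module R N] :
    Function.Injective (a.rTensor N) :=
  (LinearMap.lTensor_inj_iff_rTensor_inj (M := N) a).mp
    (GrothLib.HomDimCrit.lTensor_injective_swap (U := LinearMap.ker (cover R N)) (V := N →₀ R) (c := (LinearMap.ker (cover R N)).subtype) (d := cover R N) ha hab
      hb (LinearMap.exact_subtype_ker_map _) cover_surjective
      (Module.Flat.lTensor_preserves_injective_linearMap (M := X) (LinearMap.ker (cover R N)).subtype
        (Submodule.injective_subtype _)))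

theorem flat_ker [Module.Flat R F] [Module.Flat R X] (b : F →ₗ[R] X) (hb : Function.Surjective b) :
    Module.Flat R (LinearMap.ker b) :=
  torLE_zero_iff.1 ((torLE_succ_iff _ b (Submodule.injective_subtype _) (LinearMap.exact_subtype_ker_map b) hb 0).1
    (torLE_zero_iff.2 ‹Module.Flat R X›).succ)

end

/-- **A flat resolution of a module of flat dimension `≤ d` stays exact above `d` after tensoring.** -/
theorem exact_rTensor_of_torLE {R : Type u} [CommRing R] (N : Type u) [AddCommGroup N] [Module R N] :
    ∀ (j d : ℕ), d ≤ j → ∀ (T : ℕ → Type u) [∀ i, AddCommGroup (T i)] [∀ i, Module R (T i)]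
      [∀ i, Module.Flat R (T i)] (D : ∀ i, T (i + 1) →ₗ[R] T i) (X : Type u) [AddCommGroup X] [Module R X]
      (ε : T 0 →ₗ[R] X), Function.Surjective ε → Function.Exact (D 0) ε →
      (∀ i, Function.Exact (D (i + 1)) (D i)) → TorLE R d X →
      Function.Exact ((D (j + 1)).rTensor N) ((D j).rTensor N)
  | 0, d, hd, T, _, _, _, D, X, _, _, ε, hε, h0, hD, hX => by
    obtain rfl : d = 0 := Nat.le_zero.1 hd
    haveI : Module.Flat R X := torLE_zero_iff.1 hX
    let D' : T 1 →ₗ[R] LinearMap.ker ε := (D 0).codRestrict _ fun x => h0.apply_apply_eq_zero x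
    have hD' : Function.Surjective D' := fun y => by
      obtain ⟨x, hx⟩ := (h0 _).1 y.2
      exact ⟨x, Subtype.ext hx⟩
    have hex : Function.Exact (D 1) D' := fun x => by
      rw [← hD 0 x]
      exact ⟨fun h => congrArg Subtype.val h, fun h => Subtype.ext h⟩
    rw [show D 0 = (LinearMap.ker ε).subtype ∘ₗ D' from rfl, LinearMap.rTensor_comp, LinearMap.coe_comp]
    exact (rTensor_exact N hex hD').comp_injective _
      (rTensor_injective_of_flat _ ε (Submodule.injective_subtype _) (LinearMap.exact_subtype_ker_map ε) hε N)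
      (map_zero _)
  | j + 1, d, hd, T, _, _, _, D, X, _, _, ε, hε, h0, hD, hX => by
    let D' : T 1 →ₗ[R] LinearMap.ker ε := (D 0).codRestrict _ fun x => h0.apply_apply_eq_zero x
    have hD' : Function.Surjective D' := fun y => by
      obtain ⟨x, hx⟩ := (h0 _).1 y.2
      exact ⟨x, Subtype.ext hx⟩
    have hex : Function.Exact (D 1) D' := fun x => by
      rw [← hD 0 x]
      exact ⟨fun h => congrArg Subtype.val h, fun h => Subtype.ext h⟩
    have hK : TorLE R (d - 1) (LinearMap.ker ε) :=
      (torLE_succ_iff _ ε (Submodule.injective_subtype _) (LinearMap.exact_subtype_ker_map ε) hε (d - 1)).1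
        (hX.mono (by omega))
    exact exact_rTensor_of_torLE N j (d - 1) (by omega) (fun i => T (i + 1)) (fun i => D (i + 1))
      (LinearMap.ker ε) D' hD' hex (fun i => hD (i + 1)) hK

/-- Flat base change. -/
theorem TorLE.baseChange {A : Type u} [CommRing A] (B : Type u) [CommRing B] [Algebra A B] [Module.Flat A B]
    (d : ℕ) (X : Type u) [AddCommGroup X] [Module A X] (h : TorLE A d X) : TorLE B d (B ⊗[A] X) := by
  induction d generalizing X with
  | zero =>
    haveI : Module.Flat A X := torLE_zero_iff.1 h
    haveI : Module.Flat B (B ⊗[A] X) := Module.Flat.baseChange A B X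
    exact torLE_zero_iff.2 ‹_›
  | succ d ih =>
    have hK := (torLE_succ_iff _ _ (Submodule.injective_subtype _) (LinearMap.exact_subtype_ker_map (cover A X))
      cover_surjective d).1 h
    have ha : Function.Injective ((LinearMap.ker (cover A X)).subtype.lTensor B) :=
      Module.Flat.lTensor_preserves_injective_linearMap _ (Submodule.injective_subtype _)
    have hab : Function.Exact ((LinearMap.ker (cover A X)).subtype.lTensor B) ((cover A X).lTensor B) :=
      lTensor_exact (M := LinearMap.ker (cover A X)) (N := X →₀ A) (P := X) B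
        (LinearMap.exact_subtype_ker_map _) cover_surjective
    have hb : Function.Surjective ((cover A X).lTensor B) :=
      LinearMap.lTensor_surjective B (cover_surjective (R := A) (X := X))
    rw [← LinearMap.baseChange_eq_ltensor] at ha hb
    rw [← LinearMap.baseChange_eq_ltensor, ← LinearMap.baseChange_eq_ltensor] at hab
    have hK' : TorLE B d (B ⊗[A] LinearMap.ker (cover A X)) := ih (LinearMap.ker (cover A X)) hK
    exact (torLE_succ_iff _ _ ha hab hb d).2 hK'

/-- Extending scalars along a flat algebra over `B` preserves the flat dimension over `A`. -/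
theorem TorLE.flat_tensor {A B : Type u} [CommRing A] [CommRing B] [Algebra A B] (B' : Type u) [CommRing B']
    [Algebra B B'] [Algebra A B'] [IsScalarTower A B B'] [Module.Flat B B'] {d : ℕ}
    (X : Type u) [AddCommGroup X] [Module A X] [Module B X] [IsScalarTower A B X] (h : TorLE A d X) :
    TorLE A d (B' ⊗[B] X) := fun N i => by
  let P := projectiveResolution N
  have hx := (GrothLib.FlatFP.isZero_tor_iff (ModuleCat.of A X) N (i + d + 1)).1 (h N i)
  refine (GrothLib.FlatFP.isZero_tor_iff (ModuleCat.of A (B' ⊗[B] X)) N (i + d + 1)).2 ?_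
  rw [← HomologicalComplex.exactAt_iff_isZero_homology,
    HomologicalComplex.exactAt_iff' _ (i + d + 2) (i + d + 1) (i + d) (by simp) (by simp),
    ShortComplex.moduleCat_exact_iff] at hx ⊢
  let d₂ : P.complex.X (i + d + 2) →ₗ[A] P.complex.X (i + d + 1) := (P.complex.d _ _).hom
  let d₁ : P.complex.X (i + d + 1) →ₗ[A] P.complex.X (i + d) := (P.complex.d _ _).hom
  have hdd : d₁ ∘ₗ d₂ = 0 := congrArg ModuleCat.Hom.hom (P.complex.d_comp_d _ _ _)
  have hB : Function.Exact (AlgebraTensorModule.lTensor B X d₂) (AlgebraTensorModule.lTensor B X d₁) :=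
    fun x => ⟨hx x, by
      rintro ⟨y, rfl⟩
      show d₁.lTensor X (d₂.lTensor X y) = 0
      rw [← LinearMap.lTensor_comp_apply, hdd]
      simp⟩
  have hB' := Module.Flat.lTensor_exact B' hB
  let e : ∀ Q : ModuleCat.{u} A, (B' ⊗[B] X) ⊗[A] Q ≃ₗ[B] B' ⊗[B] (X ⊗[A] Q) := fun Q =>
    AlgebraTensorModule.assoc A B B B' X Q
  have nat : ∀ {Q Q' : ModuleCat.{u} A} (f : Q →ₗ[A] Q') (z : (B' ⊗[B] X) ⊗[A] Q),
      e Q' (f.lTensor (B' ⊗[B] X) z) = (AlgebraTensorModule.lTensor B X f).lTensor B' (e Q z) := by
    intro Q Q' f z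
    induction z using TensorProduct.induction_on with
    | zero => simp
    | add a b ha hb => simp only [map_add, ha, hb]
    | tmul w q =>
      induction w using TensorProduct.induction_on with
      | zero => simp
      | add a b ha hb => simp only [add_tmul, map_add, ha, hb]
      | tmul c x => rfl
  show ∀ z : (B' ⊗[B] X) ⊗[A] P.complex.X (i + d + 1), d₁.lTensor (B' ⊗[B] X) z = 0 →
    ∃ y : (B' ⊗[B] X) ⊗[A] P.complex.X (i + d + 2), d₂.lTensor (B' ⊗[B] X) y = z
  intro z hz
  have h1 : (AlgebraTensorModule.lTensor B X d₁).lTensor B' (e _ z) = 0 := by rw [← nat, hz, map_zero]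
  obtain ⟨w, hw⟩ := (hB' _).1 h1
  refine ⟨(e _).symm w, (e _).injective ?_⟩
  rw [nat, LinearEquiv.apply_symm_apply]
  exact hw

/-- Flat dimension can be checked at maximal ideals. -/
theorem torLE_of_localization {B : Type u} [CommRing B] : ∀ (d : ℕ) (X : Type u) [AddCommGroup X] [Module B X],
    (∀ (P : Ideal B) [P.IsMaximal],
      TorLE (Localization.AtPrime P) d (Localization.AtPrime P ⊗[B] X)) → TorLE B d X
  | 0, X, _, _, h => by
    refine torLE_zero_iff.2 (Module.flat_of_localized_maximal X fun P _ => ?_)
    haveI : Module.Flat (Localization.AtPrime P) (Localization.AtPrime P ⊗[B] X) := torLE_zero_iff.1 (h P)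
    haveI : Module.Flat B (Localization.AtPrime P ⊗[B] X) :=
      Module.Flat.trans B (Localization.AtPrime P) _
    exact Module.Flat.of_linearEquiv
      ((LocalizedModule.equivTensorProduct P.primeCompl X).restrictScalars B)
  | d + 1, X, _, _, h => by
    refine (torLE_succ_iff _ _ (Submodule.injective_subtype _) exact_cover cover_surjective d).2
      (torLE_of_localization d _ fun P _ => ?_)
    have ha : Function.Injective ((LinearMap.ker (cover B X)).subtype.lTensor (Localization.AtPrime P)) :=
      Module.Flat.lTensor_preserves_injective_linearMap _ (Submodule.injective_subtype _)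
    have hab : Function.Exact ((LinearMap.ker (cover B X)).subtype.lTensor (Localization.AtPrime P))
        ((cover B X).lTensor (Localization.AtPrime P)) :=
      lTensor_exact (M := LinearMap.ker (cover B X)) (N := X →₀ B) (P := X) _
        (LinearMap.exact_subtype_ker_map _) cover_surjective
    have hb : Function.Surjective ((cover B X).lTensor (Localization.AtPrime P)) :=
      LinearMap.lTensor_surjective _ (cover_surjective (R := B) (X := X))
    exact (torLE_succ_iff ((LinearMap.ker (cover B X)).subtype.baseChange (Localization.AtPrime P))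
      ((cover B X).baseChange (Localization.AtPrime P)) ha hab hb d).1 (h P)

end GrothLib.HypTor16
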